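import Cfsg.Agent.ChevTw.TwE6

/-!
# Tables for the layers of the unipotent group of ²E₆(q) (owner: helper31)

The positive roots fall into 24 orbits of the twist, listed by height. For each pair of layers there is
either a cocharacter of the split torus with value zero on the later and one on the earlier layer, or two
orbits commuting with the earlier layer whose commutator gives the later layer.
-/

set_option autoImplicit false

namespace Cfsg.Agent.TwE6Mult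

open Cfsg.Lie Cfsg.Agent.ChevTw

/-- The first roots of the orbits, by height. -/
def ord : List ℕ :=
  [36, 37, 39, 46, 38, 40, 47, 41, 44, 48, 45, 49, 51, 52, 53, 60, 54, 63, 55, 65, 66, 69, 70, 71]

/-- Cocharacters with value one on each layer. -/
def unitLam : List (ℤ × ℤ × ℤ × ℤ) :=
  [(0, 0, -1, 0), (0, -1, 0, 0), (-1, 0, 0, 0), (0, -1, 0, 0), (0, -1, 0, 0), (-1, 0, 0, 0), (0, 1, 0, 0), (-1, 0, 0, 0), (-1, 0, 0, 0), (0, 0, 0, -1), (-1, 0, 0, 0), (0, 0, -1, 0), (0, -1, 0, 0), (0, -1, 0, 0), (0, 1, 0, 0), (-1, 0, 0, 0), (0, 0, -1, 0), (0, -1, 0, 0), (0, 0, 0, -1), (0, 1, 0, 0), (0, 0, 0, 1), (0, -1, 0, 0), (-1, 0, 0, 0), (1, 0, 0, 0)]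

/-- For each pair of layers a separating cocharacter, or roots whose commutator gives the later layer. -/
def pairTab : List (List ((ℤ × ℤ × ℤ × ℤ) ⊕ (ℕ × ℕ))) := [
  [.inr (4, 68), .inl (0, -2, -1, 0), .inl (0, -1, -1, 0), .inl (0, 0, -1, 0), .inl (0, -1, -1, 0),
    .inl (0, 0, -1, 0), .inl (-2, 0, -1, 0), .inl (-1, 0, 1, 0), .inl (0, 0, -1, -1),
    .inl (0, 0, -1, 0), .inl (-1, 0, -1, 0), .inl (-1, 0, -1, 0), .inl (0, 0, -1, -1),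
    .inl (-1, 0, 1, 0), .inl (0, 0, -1, 0), .inl (0, 0, -1, 0), .inl (0, -1, -1, 0),
    .inl (0, 0, -1, 0), .inl (0, 0, -1, -1), .inl (0, 0, -1, -1), .inl (0, 0, -1, 0),
    .inl (0, -2, -1, 0), .inl (0, 0, -1, 0), .inl (0, 0, -1, 0)],
  [.inr (10, 62), .inl (0, 0, 0, -1), .inl (0, 0, 0, -1), .inl (0, -1, -1, 0), .inl (-1, -1, 0, 0),
    .inl (0, 0, 0, -1), .inl (-1, -1, 0, 0), .inl (0, -1, 0, 0), .inl (0, -1, 0, 0),
    .inl (0, -1, 0, 0), .inl (0, -1, 0, 0), .inl (-1, -1, 0, 0), .inl (0, 0, 0, -1),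
    .inl (0, -2, -1, -1), .inl (0, -1, 0, 0), .inl (0, 0, 0, -1), .inl (-1, -1, 0, 0),
    .inl (0, -1, 0, 0), .inl (0, 0, -1, -1), .inl (0, -1, 0, 0), .inl (0, 0, 0, -1),
    .inl (0, 0, 0, -1), .inl (0, -1, 0, 0)],
  [.inr (9, 64), .inl (-1, -2, -1, 0), .inl (-1, 0, 0, 0), .inl (-1, -1, 0, 0), .inl (-1, -1, -1, 0),
    .inl (-1, -1, 0, 0), .inr (10, 67), .inl (-1, 0, 0, -1), .inl (-1, -1, -1, 0),
    .inl (-1, 0, 0, 1), .inl (-1, -1, 0, 0), .inl (-1, -1, 0, 0), .inl (-1, 0, 0, 0), .inr (21, 68),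
    .inl (-1, 0, 0, 0), .inl (-1, -1, 0, 0), .inl (-1, 0, 0, 0), .inl (-1, 0, 0, 0),
    .inl (-1, 0, 0, 0), .inl (-1, 0, 0, 0), .inl (-1, -1, 0, 0), .inr (48, 68)],
  [.inr (12, 62), .inl (0, -1, -1, 0), .inl (-1, -1, 0, 0), .inl (-1, -1, -1, 0),
    .inl (-1, -1, 0, 0), .inl (0, -1, 0, 0), .inl (0, -1, 0, 0), .inl (0, -1, 0, 0),
    .inl (0, -1, 0, 0), .inl (-1, -1, 0, 0), .inl (-1, -1, 0, 0), .inr (14, 67), .inl (0, -1, 0, 0),
    .inl (0, -1, -1, 0), .inl (-1, -1, 0, 0), .inl (0, -1, 0, 0), .inr (29, 68), .inl (0, -1, 0, 0),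
    .inr (37, 68), .inl (-1, -1, 0, 0), .inl (0, -1, 0, 0)],
  [.inr (7, 66), .inl (0, 0, -1, 0), .inl (0, 0, 0, -1), .inl (-1, -1, 0, 0), .inl (0, -1, 0, 0),
    .inl (0, -1, 0, 0), .inl (0, -1, 0, 0), .inl (0, -1, 0, 0), .inl (-1, -1, 0, 0),
    .inl (0, 0, 0, -1), .inl (0, 0, -1, 0), .inl (0, -1, 0, 0), .inl (0, 0, 0, -1),
    .inl (0, 0, -1, 0), .inl (0, -1, 0, 0), .inl (0, -2, -1, 0), .inl (0, -1, 0, 0),
    .inl (0, 0, 0, -1), .inl (0, 0, -1, 0), .inl (0, -1, 0, 0)],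
  [.inr (10, 64), .inl (0, 0, 0, -1), .inl (-1, 0, 1, 0), .inl (0, -1, 0, 0), .inl (0, -1, 0, 0),
    .inl (0, -1, 0, 0), .inl (0, -1, 0, 0), .inl (0, 0, -1, -1), .inl (0, 0, 0, -1),
    .inl (-1, 0, 0, 0), .inl (0, -1, 0, 0), .inl (-1, 0, 0, 0), .inl (-2, 0, 0, 1),
    .inl (-1, 0, 0, 0), .inl (-1, 0, 0, 0), .inl (-1, 0, 0, 0), .inl (-1, 0, 0, 0),
    .inl (0, 0, 0, -1), .inl (0, -1, 0, 0)],
  [.inr (12, 64), .inl (-1, 0, 0, -1), .inl (0, -1, 0, 0), .inl (0, -1, 0, 0), .inl (0, -1, 0, 0),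
    .inl (0, -1, 0, 0), .inr (13, 67), .inl (0, -1, -1, 0), .inl (-1, 0, 0, 0), .inl (0, -1, 0, 0),
    .inl (-1, 0, 0, 0), .inr (28, 68), .inl (-1, 0, 0, 0), .inl (-1, 0, 0, 0), .inl (-1, 0, 0, 0),
    .inl (-1, 0, 0, 0), .inr (40, 68), .inl (0, -1, 0, 0)],
  [.inr (9, 66), .inl (0, -1, 0, 0), .inl (0, -1, 0, 0), .inl (0, -1, 0, 0), .inl (0, -1, 0, 0),
    .inl (-2, 0, 0, -1), .inl (0, 0, 0, -1), .inl (-1, 0, 0, 0), .inl (0, -1, 0, 0),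
    .inl (-1, 0, 0, 0), .inl (0, 0, -1, 0), .inl (-1, 0, 0, 0), .inl (-1, 0, 0, 0),
    .inl (-1, 0, 0, 0), .inl (-1, 0, 0, 0), .inl (0, 0, -1, 0), .inl (0, -1, 0, 0)],
  [.inr (10, 67), .inl (-1, 0, -1, -1), .inl (-1, 0, -1, 0), .inl (-1, 0, -1, 0),
    .inl (-1, -1, 0, 0), .inl (-1, -1, 0, 0), .inl (-1, 0, 0, 0), .inr (21, 68), .inl (-1, 0, 0, 0),
    .inl (-1, -1, 0, 0), .inl (-1, 0, 0, 0), .inl (-1, 0, 0, 0), .inl (-1, 0, 0, 0),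
    .inl (-1, 0, 0, 0), .inl (-1, -1, 0, 0), .inr (48, 68)],
  [.inr (13, 64), .inl (0, 0, 0, -1), .inl (-1, 0, -1, 0), .inl (-1, -1, 0, 0), .inl (0, 0, 0, -1),
    .inl (-1, 0, 0, 0), .inl (-2, 0, 0, -1), .inl (-1, 0, 0, 0), .inl (-1, -1, 0, 0),
    .inl (-1, 0, 0, 0), .inl (-1, 0, 0, 0), .inl (-1, 0, 0, 0), .inl (-1, 0, 0, 0),
    .inl (0, 0, 0, -1), .inl (0, 0, 0, -1)],
  [.inr (10, 68), .inl (-1, 0, 0, 1), .inl (-1, -1, 0, 0), .inl (-1, -1, 0, 0), .inl (-1, 0, 0, 0),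
    .inl (0, 0, -1, 0), .inl (-1, 0, 0, 0), .inl (0, 0, -1, 0), .inl (-1, 0, 0, 0),
    .inl (-1, 0, 0, 0), .inl (-1, 0, 0, 0), .inl (-1, 0, 0, 0), .inl (0, 0, -1, 0),
    .inl (0, 0, -1, 0)],
  [.inr (12, 66), .inl (-1, -1, 0, 0), .inl (0, 0, 0, -1), .inl (-1, 0, 0, 0), .inl (0, 0, -1, 0),
    .inl (-1, 0, 0, 0), .inl (0, 0, -1, 0), .inl (-1, 0, 0, 0), .inl (-1, 0, 0, 0),
    .inl (-1, 0, 0, 0), .inl (-1, 0, 0, 0), .inl (0, 0, -1, 0), .inl (0, 0, -1, 0)],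
  [.inr (13, 67), .inl (-1, 0, 1, 0), .inl (-1, 0, 0, 0), .inl (0, -1, 0, 0), .inl (-1, 0, 0, 0),
    .inr (28, 68), .inl (-1, 0, 0, 0), .inl (-1, 0, 0, 0), .inl (-1, 0, 0, 0), .inl (-1, 0, 0, 0),
    .inr (40, 68), .inl (0, -1, 0, 0)],
  [.inr (13, 68), .inl (-1, 0, 0, 0), .inl (0, -1, 0, 0), .inl (-1, 0, 0, 0), .inl (0, 0, -1, 0),
    .inl (-1, 0, 0, 0), .inl (-1, 0, 0, 0), .inl (-1, 0, 0, 0), .inl (-1, 0, 0, 0),
    .inl (0, 0, -1, 0), .inl (0, -1, 0, 0)],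
  [.inr (14, 67), .inl (0, -1, 0, 0), .inl (0, -1, -1, 0), .inl (-1, -1, 0, 0), .inl (0, -1, 0, 0),
    .inr (29, 68), .inl (0, -1, 0, 0), .inr (37, 68), .inl (-1, -1, 0, 0), .inl (0, -1, 0, 0)],
  [.inr (21, 68), .inl (-1, 0, 0, 0), .inl (-1, -1, 0, 0), .inl (-1, 0, 0, 0), .inl (-1, 0, 0, 0),
    .inl (-1, 0, 0, 0), .inl (-1, 0, 0, 0), .inl (-1, -1, 0, 0), .inr (49, 67)],
  [.inr (14, 68), .inl (0, 0, -1, 0), .inl (0, -1, 0, 0), .inl (0, 0, -1, -1), .inl (0, -1, 0, 0),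
    .inl (0, -2, -1, 0), .inl (0, 0, -1, 0), .inl (0, -1, 0, 0)],
  [.inr (28, 68), .inl (-1, 0, 0, 0), .inl (-1, 0, 0, 0), .inl (-1, 0, 0, 0), .inl (-1, 0, 0, 0),
    .inr (41, 67), .inl (0, -1, 0, 0)],
  [.inr (15, 66), .inl (0, -2, -1, 0), .inl (0, 0, -1, 0), .inl (0, 0, 0, -1), .inl (0, 0, -1, 0),
    .inl (0, 0, -1, 0)],
  [.inr (29, 68), .inl (0, -1, 0, 0), .inr (38, 67), .inl (-1, -1, 0, 0), .inl (0, -1, 0, 0)],
  [.inr (38, 64), .inl (0, 0, 0, -1), .inl (0, 0, 0, -1), .inl (0, 0, 0, -1)],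
  [.inr (37, 68), .inl (-1, -1, 0, 0), .inl (0, -1, 0, 0)],
  [.inr (40, 68), .inl (0, -1, 0, 0)],
  [.inr (48, 68)]]

/-- The root partner under the twist. -/
abbrev rho (r : ℕ) : ℕ := twE6.root r

/-- The roots of the layers from `k` on. -/
def tailRoots (k : ℕ) : List ℕ := (ord.drop k).flatMap fun r => [r, rho r]

/-- The value of a cocharacter on a root. -/
def pairing (l : ℤ × ℤ × ℤ × ℤ) (r : ℕ) : ℤ :=
  l.2.2.2 * chevE6.cartan 0 r + l.1 * chevE6.cartan 1 r + l.2.2.1 * chevE6.cartan 2 r + l.2.1 * chevE6.cartan 3 r +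
    l.2.2.1 * chevE6.cartan 4 r + l.2.2.2 * chevE6.cartan 5 r

/-- The sign of the twist at a root. -/
abbrev sgn (r : ℕ) : ℤ := symE6.sgn r

/-- Whether the root elements of two roots commute by the commutator formula. -/
def cOK (r s : ℕ) : Bool := (s == r) || ((s != chevE6.neg r) && (chevE6.commTerms r s).isEmpty)

/-- Whether two orbits commute. -/
def cOK₂ (r s : ℕ) : Bool := cOK r s && cOK r (rho s) && cOK (rho r) s && cOK (rho r) (rho s)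

/-- Whether the orbit of `k` is the commutator of the orbits of `a` and `b`. -/
def decOK (a b k : ℕ) : Bool :=
  match chevE6.commTerms a b, chevE6.commTerms (rho a) (rho b) with
  | [(k₁, c₁, 1, 1)], [(k₂, c₂, 1, 1)] =>
    (k₁ == k) && (k₂ == rho k) && (c₁ * c₁ == 1) && (c₁ * c₂ * sgn a * sgn b == sgn k) &&
      (b != a) && (b != chevE6.neg a) && (rho b != rho a) && (rho b != chevE6.neg (rho a)) &&
      cOK a (rho a) && cOK b (rho b) && cOK a (rho b) && cOK (rho a) b && cOK₂ k a && cOK₂ k b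
  | _, _ => false

/-- The check of an entry of the pair table. -/
def entryOK (i k : ℕ) : (ℤ × ℤ × ℤ × ℤ) ⊕ (ℕ × ℕ) → Bool
  | .inl l => (pairing l (ord.getD k 0) == 0) && ((pairing l (ord.getD i 0)).natAbs == 1)
  | .inr ab => decide (ab.1 < 72) && decide (ab.2 < 72) && cOK₂ (ord.getD i 0) ab.1 && cOK₂ (ord.getD i 0) ab.2 &&
      decOK ab.1 ab.2 (ord.getD k 0)

theorem ord_data : ord.length = 24 ∧ chevE6.nroots = 72 ∧ ∀ i < 24, chevE6.IsPosRoot (ord.getD i 0) := by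
  decide +kernel

theorem root_data : ∀ r < 72, rho r < 72 ∧ rho (rho r) = r ∧ sgn (rho r) = sgn r ∧ cOK r (rho r) = true ∧
    (∀ i < 6, chevE6.cartan i (rho r) = chevE6.cartan ([5, 1, 4, 3, 2, 0].getD i 0) r) := by
  decide +kernel

theorem pos_data : ∀ r < 72, chevE6.IsPosRoot r → r ∈ tailRoots 0 := by decide +kernel

theorem disj_data : ∀ k < 24, ∀ r ∈ [ord.getD k 0, rho (ord.getD k 0)], r ∉ tailRoots (k + 1) := by
  decide +kernel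

theorem comm_data : ∀ i < 24, ∀ j < 24, ∀ r ∈ [ord.getD i 0, rho (ord.getD i 0)],
    ∀ s ∈ [ord.getD j 0, rho (ord.getD j 0)], ∀ c ∈ chevE6.commTerms r s, s ≠ r →
      c.1 ∈ tailRoots (max i j + 1) := by
  decide +kernel

theorem unit_data : ∀ k < 24, pairing (unitLam.getD k (0, 0, 0, 0)) (ord.getD k 0) = 1 := by decide +kernel

theorem pair_data : ∀ i < 24, ∀ k < 24, i ≤ k →
    entryOK i k ((pairTab.getD i []).getD (k - i) (.inr (0, 0))) = true := by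
  decide +kernel

end Cfsg.Agent.TwE6Mult
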